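import Cfsg.Agent.Mrg.Omega.F4Leaf.OT.Inst
import Cfsg.Agent.Mrg.Omega.TTn.Z.Member
import Cfsg.Agent.Mrg.Omega.HT.Main
import Cfsg.Agent.Mrg.Omega.HTwo.AlphaP


/-!
# LeafF4, `m = 2`, `n` not 2-central (O1): the contradiction (#18759, #18723)

* `false_of` : the configuration `Tone.Cfg` is contradictory;
* `o1`, `f4nc` : `NC.O1`, `F4NC`.
-/

set_option autoImplicit false

namespace Cfsg.Agent.Omega.F4Leaf.OT.Done

open Subgroup Cfsg
open Cfsg.Agent.Omega.S5.Mod Cfsg.Agent.Omega.S5.TT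
open Cfsg.Agent.Omega.F4Leaf.OT.Tone Cfsg.Agent.Omega.F4Leaf.OT.Line Cfsg.Agent.Omega.F4Leaf.OT.Inst
open Cfsg.Agent.Omega.HT

universe u

/-- **the configuration of (O1) is contradictory** -/
theorem false_of {G : Type u} [Group G] [Finite G] {S : Sylow 2 G} {A L : Subgroup G} {M : FiveMod A L} {k : G}
    {V₀ : Subgroup G} (c : Cfg S M k V₀) : False := by
  have b := htt c
  have hr := Inst.hr c
  obtain ⟨x, hx, y, hy, hx1, hy1, hne⟩ := exists_two c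
  refine hne (Main.main b (Inst.hLE c) hr (odd_MZ c) (fun _ z hz hs => ?_) x hx y hy hx1 hy1)
  obtain ⟨v, hv, rfl⟩ := Sg.sig c hz.1 (b.cz_le hz) hs
  have hcore := Main.core_of_odd b hr hz (c.ne_a hv) (odd_MP c hv)
  exact ⟨v * M.e aa, hz, c.ne_a hv, Or.inr rfl, hcore,
    AlphaY.not_alpha b hr (Inst.hLE c) hz (c.ne_a hv) (Main.gsys_of_core b hr hz (c.ne_a hv) hcore) (hyV c hv)⟩

theorem o1 : NC.O1.{u} := OfO1.o1_of fun _ _ _ _ _ _ _ _ _ _ _ _ c => false_of c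

/-- **F4NC** : `m = 2`, `n` not 2-central is impossible -/
theorem f4nc : F4Leaf.Main.F4NC.{u} := OfO1.f4nc_of fun _ _ _ _ _ _ _ _ _ _ _ _ c => false_of c

end Cfsg.Agent.Omega.F4Leaf.OT.Done
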